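import Groth.Agent.H1Sheaf.Ring
import Groth.Prelude.Def_SheafNL
import Mathlib.AlgebraicGeometry.Morphisms.Flat

/-!
# Chart pairs and restriction of their `H¹`

* `Pair f`, `le p q`, `res`; `res_res`, `res_refl`, `res_smul`;
* `flat_res`, `epi_res`: restriction between affine opens is a flat epimorphism;
* `exists_pow_smul_eq_zero'`, `exists_res_eq_pow_smul'`: localisation on basic opens;
* `bijective_res`: same source, smaller target.
-/

universe u

open CategoryTheory CategoryTheory.Limits AlgebraicGeometry Opposite TopologicalSpace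

set_option backward.isDefEq.respectTransparency false

namespace Groth.Agent.H1Sheaf

variable {X Y : Scheme.{u}} (f : X ⟶ Y)

/-- An affine chart pair. -/
structure Pair where
  /-- source -/
  U : X.affineOpens
  /-- target -/
  V : Y.affineOpens
  e : (U : X.Opens) ≤ f ⁻¹ᵁ (V : Y.Opens)

variable {f}

/-- The module of a pair. -/
abbrev M (p : Pair f) : Type u := NLCx.ChartH1 f p.U p.V p.e

/-- `q` is smaller than `p`. -/
def Le (q p : Pair f) : Prop :=
  (q.U : X.Opens) ≤ (p.U : X.Opens) ∧ (q.V : Y.Opens) ≤ (p.V : Y.Opens)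

theorem Le.refl (p : Pair f) : Le p p := ⟨le_rfl, le_rfl⟩

theorem Le.trans {p q r : Pair f} (h : Le r q) (h' : Le q p) : Le r p :=
  ⟨h.1.trans h'.1, h.2.trans h'.2⟩

/-- Restriction to a smaller pair. -/
noncomputable def res {p q : Pair f} (h : Le q p) : M p →+ M q :=
  NLCx.chartRes p.e q.e h.1 h.2

/-- Restriction of functions. -/
noncomputable def rres {U U' : X.Opens} (h : U' ≤ U) : Γ(X, U) →+* Γ(X, U') :=
  (X.presheaf.map (homOfLE h).op).hom

theorem rres_rres {U U' U'' : X.Opens} (h : U' ≤ U) (h' : U'' ≤ U') (a : Γ(X, U)) :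
    rres h' (rres h a) = rres (h'.trans h) a := by
  change (X.presheaf.map (homOfLE h).op ≫ X.presheaf.map (homOfLE h').op) a = _
  rw [← Functor.map_comp]
  rfl

theorem epi_res {V V' : Y.Opens} (hV : IsAffineOpen V) (hV' : IsAffineOpen V') (h : V' ≤ V) :
    Epi (Y.presheaf.map (homOfLE h).op) := by
  have hm : Mono (Spec.map (Y.presheaf.map (homOfLE h).op)) := by
    have : Mono (Spec.map (Y.presheaf.map (homOfLE h).op) ≫ hV.fromSpec) := by
      rw [hV.map_fromSpec hV' (homOfLE h).op]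
      infer_instance
    exact mono_of_mono _ hV.fromSpec
  refine ⟨fun {T} a b hab => Spec.map_injective ?_⟩
  rw [← cancel_mono (Spec.map (Y.presheaf.map (homOfLE h).op)), ← Spec.map_comp, ← Spec.map_comp,
    hab]

theorem flat_res {V V' : Y.Opens} (hV : IsAffineOpen V) (hV' : IsAffineOpen V') (h : V' ≤ V) :
    (Y.presheaf.map (homOfLE h).op).hom.Flat := by
  have : IsOpenImmersion (Spec.map (Y.presheaf.map (homOfLE h).op) ≫ hV.fromSpec) := by
    rw [hV.map_fromSpec hV' (homOfLE h).op]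
    infer_instance
  have : IsOpenImmersion (Spec.map (Y.presheaf.map (homOfLE h).op)) :=
    IsOpenImmersion.of_comp _ hV.fromSpec
  exact (HasRingHomProperty.Spec_iff (P := @Flat)).mp inferInstance

theorem res_smul {p q : Pair f} (h : Le q p) (a : Γ(X, (p.U : X.Opens))) (x : M p) :
    res h (a • x) = rres h.1 a • res h x := by
  letI := (f.appLE (p.V : Y.Opens) (p.U : X.Opens) p.e).hom.toAlgebra
  letI := (f.appLE (q.V : Y.Opens) (q.U : X.Opens) q.e).hom.toAlgebra
  letI := (f.appLE (p.V : Y.Opens) (q.U : X.Opens) (h.1.trans p.e)).hom.toAlgebra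
  letI := (X.presheaf.map (homOfLE h.1).op).hom.toAlgebra
  letI := (Y.presheaf.map (homOfLE h.2).op).hom.toAlgebra
  haveI : IsScalarTower Γ(Y, (p.V : Y.Opens)) Γ(Y, (q.V : Y.Opens)) Γ(X, (q.U : X.Opens)) :=
    IsScalarTower.of_algebraMap_eq' (by
      change (f.appLE _ _ _).hom = (f.appLE _ _ _).hom.comp (Y.presheaf.map _).hom
      rw [← CommRingCat.hom_comp, Scheme.Hom.map_appLE])
  haveI : IsScalarTower Γ(Y, (p.V : Y.Opens)) Γ(X, (p.U : X.Opens)) Γ(X, (q.U : X.Opens)) :=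
    IsScalarTower.of_algebraMap_eq' (by
      change (f.appLE _ _ _).hom = (X.presheaf.map _).hom.comp (f.appLE _ _ _).hom
      rw [← CommRingCat.hom_comp, Scheme.Hom.appLE_map])
  exact ((Algebra.H1Cotangent.map _ _ _ _).map_smul a x).trans (algebraMap_smul _ a _).symm

theorem res_res {p q r : Pair f} (h : Le r q) (h' : Le q p) (x : M p) :
    res h (res h' x) = res (h.trans h') x := by
  letI := (f.appLE (p.V : Y.Opens) (p.U : X.Opens) p.e).hom.toAlgebra
  letI := (f.appLE (q.V : Y.Opens) (q.U : X.Opens) q.e).hom.toAlgebra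
  letI := (f.appLE (r.V : Y.Opens) (r.U : X.Opens) r.e).hom.toAlgebra
  letI := (f.appLE (p.V : Y.Opens) (q.U : X.Opens) (h'.1.trans p.e)).hom.toAlgebra
  letI := (f.appLE (q.V : Y.Opens) (r.U : X.Opens) (h.1.trans q.e)).hom.toAlgebra
  letI := (f.appLE (p.V : Y.Opens) (r.U : X.Opens) ((h.trans h').1.trans p.e)).hom.toAlgebra
  letI := (X.presheaf.map (homOfLE h'.1).op).hom.toAlgebra
  letI := (X.presheaf.map (homOfLE h.1).op).hom.toAlgebra
  letI := (X.presheaf.map (homOfLE (h.trans h').1).op).hom.toAlgebra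
  letI := (Y.presheaf.map (homOfLE h'.2).op).hom.toAlgebra
  letI := (Y.presheaf.map (homOfLE h.2).op).hom.toAlgebra
  letI := (Y.presheaf.map (homOfLE (h.trans h').2).op).hom.toAlgebra
  haveI : IsScalarTower Γ(Y, (p.V : Y.Opens)) Γ(Y, (q.V : Y.Opens)) Γ(X, (q.U : X.Opens)) :=
    IsScalarTower.of_algebraMap_eq' (by
      change (f.appLE _ _ _).hom = (f.appLE _ _ _).hom.comp (Y.presheaf.map _).hom
      rw [← CommRingCat.hom_comp, Scheme.Hom.map_appLE])
  haveI : IsScalarTower Γ(Y, (p.V : Y.Opens)) Γ(X, (p.U : X.Opens)) Γ(X, (q.U : X.Opens)) :=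
    IsScalarTower.of_algebraMap_eq' (by
      change (f.appLE _ _ _).hom = (X.presheaf.map _).hom.comp (f.appLE _ _ _).hom
      rw [← CommRingCat.hom_comp, Scheme.Hom.appLE_map])
  haveI : IsScalarTower Γ(Y, (q.V : Y.Opens)) Γ(Y, (r.V : Y.Opens)) Γ(X, (r.U : X.Opens)) :=
    IsScalarTower.of_algebraMap_eq' (by
      change (f.appLE _ _ _).hom = (f.appLE _ _ _).hom.comp (Y.presheaf.map _).hom
      rw [← CommRingCat.hom_comp, Scheme.Hom.map_appLE])
  haveI : IsScalarTower Γ(Y, (q.V : Y.Opens)) Γ(X, (q.U : X.Opens)) Γ(X, (r.U : X.Opens)) :=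
    IsScalarTower.of_algebraMap_eq' (by
      change (f.appLE _ _ _).hom = (X.presheaf.map _).hom.comp (f.appLE _ _ _).hom
      rw [← CommRingCat.hom_comp, Scheme.Hom.appLE_map])
  haveI : IsScalarTower Γ(Y, (p.V : Y.Opens)) Γ(Y, (r.V : Y.Opens)) Γ(X, (r.U : X.Opens)) :=
    IsScalarTower.of_algebraMap_eq' (by
      change (f.appLE _ _ _).hom = (f.appLE _ _ _).hom.comp (Y.presheaf.map _).hom
      rw [← CommRingCat.hom_comp, Scheme.Hom.map_appLE])
  haveI : IsScalarTower Γ(Y, (p.V : Y.Opens)) Γ(X, (p.U : X.Opens)) Γ(X, (r.U : X.Opens)) :=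
    IsScalarTower.of_algebraMap_eq' (by
      change (f.appLE _ _ _).hom = (X.presheaf.map _).hom.comp (f.appLE _ _ _).hom
      rw [← CommRingCat.hom_comp, Scheme.Hom.appLE_map])
  haveI : IsScalarTower Γ(X, (p.U : X.Opens)) Γ(X, (q.U : X.Opens)) Γ(X, (r.U : X.Opens)) :=
    IsScalarTower.of_algebraMap_eq fun a => (rres_rres h'.1 h.1 a).symm
  haveI : IsScalarTower Γ(Y, (p.V : Y.Opens)) Γ(Y, (q.V : Y.Opens)) Γ(Y, (r.V : Y.Opens)) :=
    IsScalarTower.of_algebraMap_eq fun a => (rres_rres (X := Y) h'.2 h.2 a).symm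
  exact map_map (A := Γ(Y, (p.V : Y.Opens))) (A' := Γ(Y, (q.V : Y.Opens)))
    (A'' := Γ(Y, (r.V : Y.Opens))) (C := Γ(X, (p.U : X.Opens))) (C' := Γ(X, (q.U : X.Opens)))
    (C'' := Γ(X, (r.U : X.Opens))) x

theorem res_loc {p q : Pair f} (hle : Le q p) (h : Γ(X, (p.U : X.Opens)))
    (hq : (q.U : X.Opens) = X.basicOpen h) :
    (∀ x : M p, res hle x = 0 → ∃ n : ℕ, h ^ n • x = 0) ∧
      ∀ y : M q, ∃ (n : ℕ) (x : M p), res hle x = (rres hle.1 h) ^ n • y := by
  letI := (f.appLE (p.V : Y.Opens) (p.U : X.Opens) p.e).hom.toAlgebra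
  letI := (f.appLE (q.V : Y.Opens) (q.U : X.Opens) q.e).hom.toAlgebra
  letI := (f.appLE (p.V : Y.Opens) (q.U : X.Opens) (hle.1.trans p.e)).hom.toAlgebra
  letI := (X.presheaf.map (homOfLE hle.1).op).hom.toAlgebra
  letI := (Y.presheaf.map (homOfLE hle.2).op).hom.toAlgebra
  haveI : IsScalarTower Γ(Y, (p.V : Y.Opens)) Γ(Y, (q.V : Y.Opens)) Γ(X, (q.U : X.Opens)) :=
    IsScalarTower.of_algebraMap_eq' (by
      change (f.appLE _ _ _).hom = (f.appLE _ _ _).hom.comp (Y.presheaf.map _).hom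
      rw [← CommRingCat.hom_comp, Scheme.Hom.map_appLE])
  haveI : IsScalarTower Γ(Y, (p.V : Y.Opens)) Γ(X, (p.U : X.Opens)) Γ(X, (q.U : X.Opens)) :=
    IsScalarTower.of_algebraMap_eq' (by
      change (f.appLE _ _ _).hom = (X.presheaf.map _).hom.comp (f.appLE _ _ _).hom
      rw [← CommRingCat.hom_comp, Scheme.Hom.appLE_map])
  haveI : Module.Flat Γ(Y, (p.V : Y.Opens)) Γ(Y, (q.V : Y.Opens)) :=
    RingHom.flat_algebraMap_iff.mp (flat_res p.V.2 q.V.2 hle.2)
  haveI : IsLocalization.Away h Γ(X, (q.U : X.Opens)) :=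
    p.U.2.isLocalization_of_eq_basicOpen h (homOfLE hle.1) hq
  have hepi : Epi (CommRingCat.ofHom (algebraMap Γ(Y, (p.V : Y.Opens)) Γ(Y, (q.V : Y.Opens)))) :=
    epi_res p.V.2 q.V.2 hle.2
  exact ⟨fun x hx => exists_pow_smul_eq_zero hepi h x hx,
    fun y => exists_map_eq_pow_smul hepi h y⟩

/-- Shrinking the target does not change the module. -/
theorem bijective_res {p q : Pair f} (hle : Le q p) (hU : (q.U : X.Opens) = p.U) :
    Function.Bijective (res hle) := by
  have hb : (q.U : X.Opens) = X.basicOpen (1 : Γ(X, (p.U : X.Opens))) := by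
    rw [X.basicOpen_of_isUnit isUnit_one, hU]
  obtain ⟨h0, hs⟩ := res_loc hle 1 hb
  refine ⟨(injective_iff_map_eq_zero _).mpr fun x hx => ?_, fun y => ?_⟩
  · obtain ⟨n, hn⟩ := h0 x hx
    rwa [one_pow, one_smul] at hn
  · obtain ⟨n, x, hx⟩ := hs y
    exact ⟨x, by rw [hx, map_one, one_pow, one_smul]⟩

theorem res_refl {p : Pair f} (h : Le p p) (x : M p) : res h x = x :=
  (bijective_res h rfl).1 (res_res h h x)

end Groth.Agent.H1Sheaf
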