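import Groth.Agent.H1Sheaf.Local

/-!
# The class in `H¹(L_{C/A})` of an element of `A` vanishing in `C`

* `cls`, `map_cls`, `cls_add`, `cls_mul`; for surjective `A → C`: `surjective_cls`, `mem_sq_of_cls`.
-/

universe u

open CategoryTheory TensorProduct

set_option backward.isDefEq.respectTransparency false

namespace Groth.Agent.H1Sheaf

section Ring

variable {A A' C C' : Type u} [CommRing A] [CommRing A'] [CommRing C] [CommRing C'] [Algebra A C]
  [Algebra A' C'] [Algebra A A'] [Algebra A C'] [Algebra C C'] [IsScalarTower A A' C']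
  [IsScalarTower A C C']

theorem C_mem_ker {a : A} (ha : algebraMap A C a = 0) :
    (MvPolynomial.C a : MvPolynomial C A) ∈ (Algebra.Generators.self A C).ker := by
  rw [Algebra.Generators.ker_eq_ker_aeval_val, RingHom.mem_ker]
  exact (MvPolynomial.aeval_C _ a).trans ha

/-- The constant `a` in the kernel of the standard presentation. -/
noncomputable def cEl (a : A) (ha : algebraMap A C a = 0) :
    (Algebra.Generators.self A C).toExtension.ker := ⟨MvPolynomial.C a, C_mem_ker ha⟩

/-- The class of an element vanishing in `C`. -/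
noncomputable def cls (a : A) (ha : algebraMap A C a = 0) : Algebra.H1Cotangent A C :=
  ⟨Algebra.Extension.Cotangent.mk (cEl a ha),
    Algebra.Extension.Cotangent.mk_C_mem_ker_cotangentComplex _ (C_mem_ker ha)⟩

theorem cls_add (a b : A) (ha : algebraMap A C a = 0) (hb : algebraMap A C b = 0)
    (hab : algebraMap A C (a + b) = 0) : cls (a + b) hab = cls a ha + cls b hb := by
  refine Subtype.ext ?_
  refine Eq.trans ?_ (map_add Algebra.Extension.Cotangent.mk (cEl a ha) (cEl b hb))
  exact congrArg Algebra.Extension.Cotangent.mk (Subtype.ext (map_add MvPolynomial.C a b))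

theorem cls_mul (r a : A) (ha : algebraMap A C a = 0) (hra : algebraMap A C (r * a) = 0) :
    cls (r * a) hra = algebraMap A C r • cls a ha := by
  refine Subtype.ext ?_
  refine Eq.trans ?_ (Algebra.Extension.H1Cotangent.val_smul _ _).symm
  let r' : (Algebra.Generators.self A C).toExtension.Ring := MvPolynomial.C r
  have h : cEl (r * a) hra = r' • cEl a ha := Subtype.ext (map_mul MvPolynomial.C r a)
  refine (congrArg Algebra.Extension.Cotangent.mk h).trans ?_
  rw [map_smul]
  refine (algebraMap_smul C r' _).symm.trans ?_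
  exact congrArg (fun c : C => c • _) (MvPolynomial.aeval_C _ r)

theorem map_cls (a : A) (ha : algebraMap A C a = 0) (ha' : algebraMap A' C' (algebraMap A A' a) = 0) :
    Algebra.H1Cotangent.map A A' C C' (cls a ha) = cls (algebraMap A A' a) ha' := by
  refine Subtype.ext ?_
  refine (Algebra.Extension.Cotangent.map_mk _ _).trans (congrArg _ (Subtype.ext ?_))
  exact (AlgHom.commutes _ a).trans rfl

theorem surjective_cls (h : Function.Surjective (algebraMap A C))
    (y : Algebra.H1Cotangent A C) : ∃ (a : A) (ha : algebraMap A C a = 0), cls a ha = y := by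
  let G := Algebra.Generators.ofSurjectiveAlgebraMap.{u, u, u} h
  obtain ⟨⟨x, hx⟩, rfl⟩ := (Algebra.Generators.H1Cotangent.equiv G
    (Algebra.Generators.self A C)).surjective y
  obtain ⟨⟨w, hw⟩, rfl⟩ := Algebra.Extension.Cotangent.mk_surjective x
  obtain ⟨a, rfl⟩ := MvPolynomial.C_surjective PEmpty w
  refine ⟨a, ?_, ?_⟩
  · have hw' : (MvPolynomial.C a : MvPolynomial PEmpty A) ∈ G.ker := hw
    rw [Algebra.Generators.ker_eq_ker_aeval_val, RingHom.mem_ker] at hw'
    exact (MvPolynomial.aeval_C _ a).symm.trans hw'
  · refine Subtype.ext ?_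
    symm
    refine (Algebra.Extension.Cotangent.map_mk _ _).trans (congrArg _ (Subtype.ext ?_))
    exact (AlgHom.commutes _ a).trans rfl

theorem mem_sq_of_cls (h : Function.Surjective (algebraMap A C)) (a : A)
    (ha : algebraMap A C a = 0) (h0 : cls a ha = 0) :
    a ∈ (RingHom.ker (algebraMap A C)) ^ 2 := by
  let φ : MvPolynomial C A →+* A := MvPolynomial.eval (fun c => (h c).choose)
  have hm : MvPolynomial.C a ∈ (Algebra.Generators.self A C).ker ^ 2 := by
    have := congrArg Subtype.val h0
    exact (Algebra.Extension.Cotangent.mk_eq_zero_iff _).mp this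
  have hle : (Algebra.Generators.self A C).ker.map φ ≤ RingHom.ker (algebraMap A C) := by
    rw [Ideal.map_le_iff_le_comap]
    intro w hw
    rw [Algebra.Generators.ker_eq_ker_aeval_val, RingHom.mem_ker] at hw
    rw [Ideal.mem_comap, RingHom.mem_ker]
    refine Eq.trans ?_ hw
    have : (algebraMap A C).comp φ =
        (MvPolynomial.aeval (Algebra.Generators.self A C).val).toRingHom := by
      refine MvPolynomial.ringHom_ext (fun r => ?_) (fun c => ?_)
      · simp [φ]
      · simp [φ, (h c).choose_spec]
    exact congr($this w)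
  have := Ideal.mem_map_of_mem φ hm
  rw [Ideal.map_pow] at this
  simpa [φ] using Ideal.pow_right_mono hle 2 this

end Ring

end Groth.Agent.H1Sheaf
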