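import Groth.Agent.H1Sheaf.Sheaf
import Groth.Agent.QCohLib.Criterion

/-!
# Quasi-coherence from the localisation properties on a cover; `H⁻¹` sheaves are quasi-coherent
-/

universe u

open CategoryTheory CategoryTheory.Limits AlgebraicGeometry TopologicalSpace Opposite

set_option backward.isDefEq.respectTransparency false

namespace Groth.Agent.H1Sheaf

open Groth.Agent.QCohLib

/-- The localisation properties on a cover by affine opens give quasi-coherence. -/
theorem isQuasicoherent_of_sections_on {X : Scheme.{u}} {M : X.Modules}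
    (P : X.affineOpens → Prop) (hcov : ∀ x : X, ∃ U : X.affineOpens, P U ∧ x ∈ U.1)
    (h₁ : ∀ (U : X.affineOpens), P U → ∀ (f : Γ(X, U.1)) (x : Γ(M, U.1)),
      M.presheaf.map (homOfLE (X.basicOpen_le f)).op x = 0 → ∃ n : ℕ, f ^ n • x = 0)
    (h₂ : ∀ (U : X.affineOpens), P U → ∀ (f : Γ(X, U.1)) (s : Γ(M, X.basicOpen f)),
      ∃ (n : ℕ) (x : Γ(M, U.1)), M.presheaf.map (homOfLE (X.basicOpen_le f)).op x =
        (X.presheaf.map (homOfLE (X.basicOpen_le f)).op f) ^ n • s) :
    M.IsQuasicoherent := by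
  refine isQuasicoherent_of_cover (ι := {U : X.affineOpens // P U}) (fun U => U.1.2.fromSpec)
    (fun x => ?_) fun U' => ?_
  · obtain ⟨U, hU, hx⟩ := hcov x
    exact ⟨⟨U, hU⟩, by rw [U.2.opensRange_fromSpec]; exact hx⟩
  obtain ⟨U, hPU⟩ := U'
  show (onSpec M U.2).IsQuasicoherent
  rw [isQuasicoherent_iff_isIso_fromTildeΓ, isIso_fromTildeΓ_iff_isLocalizing]
  intro f
  have hTU : U.2.fromSpec ''ᵁ ⊤ ≤ U.1 := fromSpec_image_le U.2 ⊤
  have hUT : U.1 ≤ U.2.fromSpec ''ᵁ ⊤ := (fromSpec_image_top U.2).ge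
  let D' : (Spec Γ(X, U.1)).Opens := PrimeSpectrum.basicOpen f
  have hD' : U.2.fromSpec ''ᵁ D' = X.basicOpen f := U.2.fromSpec_image_basicOpen f
  refine IsLocalizedModule.Away.mk_of_addCommGroup ?_ ?_ ?_
  · exact Scheme.Modules.isUnit_algebraMap_end_of_le_basicOpen f le_rfl
  · intro s
    let s' : Γ(M, X.basicOpen f) :=
      M.presheaf.map (homOfLE hD'.ge).op ((M.restrictAppIso U.2.fromSpec D').hom s)
    obtain ⟨n, x, hx⟩ := h₂ U hPU f s'
    let y : Γ(onSpec M U.2, ⊤) := M.presheaf.map (homOfLE hTU).op x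
    refine ⟨n, y, ?_⟩
    apply (ConcreteCategory.bijective_of_isIso (M.restrictAppIso U.2.fromSpec D').hom).1
    have h3 := congrArg (M.presheaf.map (homOfLE hD'.le).op) hx
    rw [QCohLib.map_map, Scheme.Modules.map_smul, QCohLib.map_map, map_self, map_pow, ring_map_map] at h3
    refine (restrictAppIso_smul M U.2 D' (f ^ n) s).trans ?_
    rw [map_pow]
    refine h3.symm.trans ?_
    exact (QCohLib.map_map M (U.2.fromSpec.image_mono le_top) hTU x).symm
  · intro x hx
    let x' : Γ(M, U.1) :=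
      M.presheaf.map (homOfLE hUT).op ((M.restrictAppIso U.2.fromSpec ⊤).hom x)
    obtain ⟨n, hn⟩ := h₁ U hPU f x' (by
      have h4 := congrArg (M.restrictAppIso U.2.fromSpec D').hom hx
      rw [map_zero] at h4
      change M.presheaf.map (homOfLE (U.2.fromSpec.image_mono le_top)).op
        ((M.restrictAppIso U.2.fromSpec ⊤).hom x) = 0 at h4
      rw [QCohLib.map_map, ← QCohLib.map_map M hD'.ge (U.2.fromSpec.image_mono le_top), h4, map_zero])
    refine ⟨n, ?_⟩
    apply (ConcreteCategory.bijective_of_isIso (M.restrictAppIso U.2.fromSpec ⊤).hom).1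
    have h5 := congrArg (M.presheaf.map (homOfLE hTU).op) hn
    rw [map_zero, Scheme.Modules.map_smul, QCohLib.map_map, map_self] at h5
    rw [restrictAppIso_smul, map_zero]
    exact h5

theorem isQCoh_of_h1Sheaf {X Y : Scheme.{u}} {f : X ⟶ Y} {F : X.Modules} (c : NLCx.H1Sheaf f F) :
    F.IsQuasicoherent := by
  refine isQuasicoherent_of_sections_on
    (fun U => ∃ V : Y.affineOpens, (U.1 : X.Opens) ≤ f ⁻¹ᵁ V.1) (fun x => ?_) ?_ ?_
  · obtain ⟨V, hV, hxV, -⟩ := exists_isAffineOpen_mem_and_subset (U := (⊤ : Y.Opens))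
      (x := f x) (Opens.mem_top _)
    obtain ⟨U, hU, hxU, hUV⟩ := exists_isAffineOpen_mem_and_subset (U := f ⁻¹ᵁ V) (x := x) hxV
    exact ⟨⟨U, hU⟩, ⟨⟨V, hV⟩, hUV⟩, hxU⟩
  · rintro U ⟨V, e⟩ g x hx
    let p : Pair f := ⟨U, V, e⟩
    have h := c.map_res e (basic p g).e (basic_le p g).1 le_rfl x
    obtain ⟨n, hn⟩ := (res_loc (basic_le p g) g rfl).1 (c.iso U V e x)
      (h.symm.trans ((congrArg _ hx).trans (map_zero _)))
    refine ⟨n, (c.iso U V e).injective ?_⟩
    rw [c.map_smul, map_zero]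
    exact hn
  · rintro U ⟨V, e⟩ g s
    let p : Pair f := ⟨U, V, e⟩
    obtain ⟨n, y, hy⟩ := (res_loc (basic_le p g) g rfl).2
      (c.iso (basic p g).U V (basic p g).e s)
    refine ⟨n, (c.iso U V e).symm y, (c.iso (basic p g).U V (basic p g).e).injective ?_⟩
    refine ((c.map_res e (basic p g).e (basic_le p g).1 le_rfl _).trans ?_).trans
      (c.map_smul (basic p g).U V (basic p g).e _ _).symm
    rw [AddEquiv.apply_symm_apply]
    exact hy

end Groth.Agent.H1Sheaf
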