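import Groth.Agent.H1Sheaf.ConormalHom
import Groth.Agent.H1Sheaf.QCoh
import Groth.Agent.QCohLib.StalkLoc
import Groth.Agent.QCohLib.Cover
import Groth.Agent.QCohLib.Pullback
import Groth.Agent.ConormalSection.PullbackStalk
import Mathlib.AlgebraicGeometry.Morphisms.Immersion

/-!
# For a quasi-compact immersion the conormal sheaf is `H⁻¹` of the naive cotangent complex

* `isIso_toH1`, `h1SheafConormal`.
-/

universe u

open CategoryTheory CategoryTheory.Limits AlgebraicGeometry Opposite TopologicalSpace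

set_option backward.isDefEq.respectTransparency false

namespace Groth.Agent.H1Sheaf

/-- Transport along an isomorphism. -/
noncomputable def h1SheafOfIso {X Y : Scheme.{u}} {f : X ⟶ Y} {F G : X.Modules} (e : F ≅ G)
    (c : NLCx.H1Sheaf f G) : NLCx.H1Sheaf f F where
  iso U V h := (AddEquiv.ofBijective (e.hom.app U.1).hom
    (ConcreteCategory.bijective_of_isIso (e.hom.app U.1))).trans (c.iso U V h)
  map_smul U V h a m := by
    change c.iso U V h (e.hom.app U.1 (a • m)) = _
    rw [Scheme.Modules.Hom.app_smul]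
    exact c.map_smul U V h a _
  map_res {U U' V V'} h h' hU hV m := by
    change c.iso U' V' h' (e.hom.app U'.1 (F.presheaf.map (homOfLE hU).op m)) = _
    rw [QCohLib.app_map]
    exact c.map_res h h' hU hV _

variable {Z X : Scheme.{u}} (i : Z ⟶ X)

theorem isClosedImmersion_restrict [IsImmersion i] {V : X.Opens} (hV : V ≤ i.coborderRange) :
    IsClosedImmersion (i ∣_ V) := by
  have : IsPreimmersion (i ∣_ V) := IsZariskiLocalAtTarget.restrict (P := @IsPreimmersion) inferInstance V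
  refine .of_isPreimmersion _ ?_
  have h : Set.range (i ∣_ V) = (Subtype.val : V → X) ⁻¹' closure (Set.range i) := by
    rw [morphismRestrict_base]
    refine (Set.range_restrictPreimage _ _).trans (Set.ext fun y => ⟨fun hy => subset_closure hy,
      fun hy => ?_⟩)
    by_contra hy'
    exact (show y.1 ∈ (coborder (Set.range i)) from hV y.2) ⟨hy, hy'⟩
  rw [h]
  exact isClosed_closure.preimage continuous_subtype_val

theorem affine_surjective [IsImmersion i] {V : X.Opens} (hVa : IsAffineOpen V)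
    (hV : V ≤ i.coborderRange) :
    IsAffineOpen (i ⁻¹ᵁ V) ∧ Function.Surjective (i.app V) := by
  have := isClosedImmersion_restrict i hV
  have : IsAffine V.toScheme := hVa
  refine ⟨?_, ?_⟩
  · exact (isAffine_of_isAffineHom (i ∣_ V) : IsAffine (i ⁻¹ᵁ V).toScheme)
  · intro s
    have hs := (i ∣_ V).app_surjective ⊤ (isAffineOpen_top _)
    rw [morphismRestrict_app] at hs
    have h1 : Function.Surjective (i.app (V.ι ''ᵁ ⊤)) := by
      intro t
      obtain ⟨r, hr⟩ := hs (Z.presheaf.map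
        (eqToHom (image_morphismRestrict_preimage i V ⊤)).op t)
      exact ⟨r, (ConcreteCategory.bijective_of_isIso (Z.presheaf.map
        (eqToHom (image_morphismRestrict_preimage i V ⊤)).op)).1 hr⟩
    have hcongr : ∀ (V₁ V₂ : X.Opens), V₁ = V₂ → Function.Surjective (i.app V₁) →
        Function.Surjective (i.app V₂) := by
      rintro V₁ _ rfl h
      exact h
    exact hcongr _ _ (Scheme.Opens.ι_image_top V) h1 s

theorem exists_pullSect_eq [QuasiCompact i] {V : X.Opens} (hV : IsAffineOpen V)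
    (hU : IsAffineOpen (i ⁻¹ᵁ V)) (hsurj : Function.Surjective (i.app V))
    (s : Γ(Omega.conormal i, i ⁻¹ᵁ V)) :
    ∃ m, OmegaSh.pullSect i (ClSub.idealMod i.ker) V m = s := by
  have := ConormalSection.isQuasicoherent_idealMod i.ker
  have hq : (Omega.conormal i).IsQuasicoherent := QCohLib.isQuasicoherent_pullback i _
  let U := i ⁻¹ᵁ V
  let S : Submodule Γ(Z, U) Γ(Omega.conormal i, U) :=
    { carrier := Set.range (OmegaSh.pullSect i (ClSub.idealMod i.ker) V)
      add_mem' := by rintro _ _ ⟨a, rfl⟩ ⟨b, rfl⟩; exact ⟨a + b, map_add _ a b⟩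
      zero_mem' := ⟨0, map_zero _⟩
      smul_mem' := by
        rintro c _ ⟨a, rfl⟩
        obtain ⟨r, rfl⟩ := hsurj c
        exact ⟨r • a, OmegaSh.pullSect_smul i _ V r a⟩ }
  suffices h : s ∈ S by exact h
  let J : Ideal Γ(Z, U) := S.comap (LinearMap.toSpanSingleton _ _ s)
  suffices hJ : J = ⊤ by
    have h1 : (1 : Γ(Z, U)) • s ∈ S := (hJ ▸ Submodule.mem_top : (1 : Γ(Z, U)) ∈ J)
    rwa [one_smul] at h1
  refine eq_top_iff.mpr ?_
  suffices hcov : U ≤ ⨆ g : (J : Set Γ(Z, U)), Z.basicOpen g.1 by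
    exact ((Ideal.span_eq J).symm.trans ((hU.self_le_iSup_basicOpen_iff (s := (J : Set Γ(Z, U)))).mp hcov)).ge
  intro x hx
  let F := Omega.conormal i
  let gm : Γ(Z, U) →+* Z.presheaf.stalk x := (Z.presheaf.germ U x hx).hom
  let P : F.presheaf.stalk x → Prop := fun t => ∃ (g : Γ(Z, U)) (s' : Γ(F, U)),
    s' ∈ S ∧ x ∈ Z.basicOpen g ∧ gm g • t = F.presheaf.germ U x hx s'
  have hP : ∀ t0 : F.presheaf.stalk x, P t0 := by
    intro t0
    have hmem : t0 ∈ Submodule.span (Z.presheaf.stalk x)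
        (ConormalSection.pullGerms i (ClSub.idealMod i.ker) x) :=
      (ConormalSection.span_pullGerms i (ClSub.idealMod i.ker) x).symm ▸ Submodule.mem_top
    induction hmem using Submodule.span_induction with
    | mem t ht =>
      obtain ⟨W, hxW, m, rfl⟩ := ht
      obtain ⟨h, hh, hxh⟩ := hV.exists_basicOpen_le (V := V ⊓ W) ⟨i x, hx, hxW⟩ hx
      have hhV : X.basicOpen h ≤ V := hh.trans inf_le_left
      have hhW : X.basicOpen h ≤ W := hh.trans inf_le_right
      obtain ⟨n, m₁, hm₁⟩ := QCohLib.exists_res_eq_pow_smul hV h (X.basicOpen h) hhV rfl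
        ((ClSub.idealMod i.ker).presheaf.map (homOfLE hhW).op m)
      have hxD : x ∈ i ⁻¹ᵁ X.basicOpen h := hxh
      refine ⟨i.app V h ^ n, OmegaSh.pullSect i (ClSub.idealMod i.ker) V m₁, ⟨m₁, rfl⟩, ?_, ?_⟩
      · rcases n with _ | n
        · rw [pow_zero, Z.basicOpen_of_isUnit isUnit_one]; exact hx
        · rw [Z.basicOpen_pow _ n.succ_pos, ← Scheme.preimage_basicOpen]; exact hxD
      · have e1 := congrArg (OmegaSh.pullSect i (ClSub.idealMod i.ker) (X.basicOpen h)) hm₁
        rw [OmegaSh.pullSect_smul, OmegaSh.pullSect_map i _ hhV, OmegaSh.pullSect_map i _ hhW] at e1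
        have e2 := congrArg (F.presheaf.germ (i ⁻¹ᵁ X.basicOpen h) x hxD) e1
        erw [TopCat.Presheaf.germ_res_apply, QCohLib.germ_smul, TopCat.Presheaf.germ_res_apply] at e2
        refine Eq.trans ?_ e2.symm
        congr 1
        change (Z.presheaf.germ U x hx) (i.app V h ^ n) =
          (Z.presheaf.germ (i ⁻¹ᵁ X.basicOpen h) x hxD)
            (i.app (X.basicOpen h) (X.presheaf.map (homOfLE hhV).op h ^ n))
        rw [← map_pow (X.presheaf.map (homOfLE hhV).op).hom, ← map_pow (i.app V).hom]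
        erw [congr(($(i.naturality (homOfLE hhV).op)) (h ^ n))]
        exact (TopCat.Presheaf.germ_res_apply Z.presheaf _ x hxD _).symm
    | zero => exact ⟨1, 0, zero_mem _, by rw [Z.basicOpen_of_isUnit isUnit_one]; exact hx,
        by rw [smul_zero, map_zero]⟩
    | add t t' _ _ ht ht' =>
      obtain ⟨g, a, ha, hxg, hga⟩ := ht
      obtain ⟨g', a', ha', hxg', hga'⟩ := ht'
      refine ⟨g * g', g' • a + g • a', add_mem (S.smul_mem _ ha) (S.smul_mem _ ha'),
        (Z.basicOpen_mul g g').ge ⟨hxg, hxg'⟩, ?_⟩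
      rw [map_add, QCohLib.germ_smul, QCohLib.germ_smul, ← hga, ← hga', map_mul, smul_add,
        mul_smul, mul_smul, smul_comm (gm g) (gm g') t]
    | smul c t _ ht =>
      obtain ⟨g, a, ha, hxg, hga⟩ := ht
      let _ := TopCat.Presheaf.algebra_section_stalk Z.presheaf (⟨x, hx⟩ : U)
      obtain ⟨⟨c₀, g', hg'⟩, hc⟩ :=
        (hU.isLocalization_stalk ⟨x, hx⟩).surj (hU.primeIdealOf ⟨x, hx⟩).asIdeal.primeCompl c
      refine ⟨g' * g, c₀ • a, S.smul_mem _ ha, (Z.basicOpen_mul g' g).ge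
        ⟨(QCohLib.mem_basicOpen_iff_notMem_primeIdealOf hU hx g').mpr hg', hxg⟩, ?_⟩
      rw [QCohLib.germ_smul, ← hga, map_mul, ← mul_smul, ← mul_smul]
      refine congrArg (· • t) ?_
      rw [mul_right_comm, mul_comm (gm g') c]
      exact congrArg (· * gm g) hc
  obtain ⟨g, a, ha, hxg, hga⟩ := hP (F.presheaf.germ U x hx s)
  have h0 : F.presheaf.germ U x hx (g • s - a) = 0 := by
    rw [map_sub, QCohLib.germ_smul, sub_eq_zero]
    exact hga
  obtain ⟨g', hxg', hg'⟩ := (QCohLib.germ_eq_zero_iff hU x hx _).mp h0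
  refine Opens.mem_iSup.mpr ⟨⟨g' * g, ?_⟩, (Z.basicOpen_mul g' g).ge ⟨hxg', hxg⟩⟩
  show (g' * g) • s ∈ S
  rw [smul_sub, sub_eq_zero, ← mul_smul] at hg'
  rw [hg']
  exact S.smul_mem _ ha

theorem bijective_toH1 [QuasiCompact i] {V : X.Opens} (hV : IsAffineOpen V)
    (hU : IsAffineOpen (i ⁻¹ᵁ V)) (hsurj : Function.Surjective (i.app V)) :
    Function.Bijective ((toH1 i).app (i ⁻¹ᵁ V)) := by
  let p : Pair i := ⟨⟨i ⁻¹ᵁ V, hU⟩, ⟨V, hV⟩, le_rfl⟩
  letI := (i.appLE (p.V : X.Opens) (p.U : Z.Opens) p.e).hom.toAlgebra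
  have halg : ∀ a : Γ(X, V), algebraMap Γ(X, (p.V : X.Opens)) Γ(Z, (p.U : Z.Opens)) a = i.app V a :=
    fun a => congr(($(i.appLE_eq_app (U := V))) a)
  have hs : Function.Surjective (algebraMap Γ(X, (p.V : X.Opens)) Γ(Z, (p.U : Z.Opens))) := by
    intro c
    obtain ⟨a, rfl⟩ := hsurj c
    exact ⟨a, halg a⟩
  have hker : ∀ a : Γ(X, V), i.app V a = 0 → ∃ m, OmegaSh.idealSect i.ker V m = a := fun a ha =>
    ConormalSection.exists_idealSect_eq i.ker ⟨V, hV⟩ a (by rw [i.ker_apply, RingHom.mem_ker]; exact ha)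
  have hev : ∀ (m : Γ(ClSub.idealMod i.ker, V)) (h0),
      ev p (show fam i (i ⁻¹ᵁ V) from (toH1 i).app (i ⁻¹ᵁ V)
        (OmegaSh.pullSect i (ClSub.idealMod i.ker) V m)) =
      zc p (OmegaSh.idealSect i.ker V m) h0 := fun m h0 => by
    rw [toH1_pullSect]
    change val i V m ⟨p, le_rfl⟩ = _
    rw [val_eq i V m ⟨p, le_rfl⟩ le_rfl]
    exact zc_congr p (congr(($(X.presheaf.map_id (op V))) _)) _ _
  refine ⟨(injective_iff_map_eq_zero _).mpr fun s hs0 => ?_, fun y => ?_⟩
  · obtain ⟨m, rfl⟩ := exists_pullSect_eq i hV hU hsurj s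
    have h0 : algebraMap Γ(X, (p.V : X.Opens)) Γ(Z, (p.U : Z.Opens))
        (OmegaSh.idealSect i.ker V m) = 0 :=
      (halg _).trans (OmegaUniv.app_eq_zero_of_idealSect i V m)
    have h1 := (hev m h0).symm.trans ((congrArg (ev p) hs0).trans (map_zero _))
    have h2 := mem_sq_of_cls hs _ h0 h1
    suffices key : ∀ a ∈ (RingHom.ker (algebraMap Γ(X, (p.V : X.Opens)) Γ(Z, (p.U : Z.Opens)))) ^ 2,
        ∃ m', OmegaSh.idealSect i.ker V m' = a ∧
          OmegaSh.pullSect i (ClSub.idealMod i.ker) V m' = 0 by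
      obtain ⟨m', hm', hp⟩ := key _ h2
      rwa [ConormalSection.idealSect_injective i.ker V hm'] at hp
    intro a ha
    rw [pow_two] at ha
    induction ha using Submodule.mul_induction_on' with
    | mem_mul_mem b hb c hc =>
      obtain ⟨mc, hmc⟩ := hker c ((halg c).symm.trans (RingHom.mem_ker.mp hc))
      refine ⟨b • mc, by rw [ConormalSection.idealSect_smul, hmc], ?_⟩
      rw [OmegaSh.pullSect_smul, (halg b).symm.trans (RingHom.mem_ker.mp hb), zero_smul]
    | add b _ c _ hb hc =>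
      obtain ⟨mb, hmb, hb'⟩ := hb
      obtain ⟨mc, hmc, hc'⟩ := hc
      exact ⟨mb + mc, by rw [map_add, hmb, hmc], by rw [map_add, hb', hc', add_zero]⟩
  · obtain ⟨a, ha, hy⟩ := surjective_cls hs (ev p (show fam i (i ⁻¹ᵁ V) from y))
    obtain ⟨m, rfl⟩ := hker a ((halg a).symm.trans ha)
    exact ⟨_, (bijective_ev p).1 ((hev m ha).trans hy)⟩

theorem isIso_toH1 [IsImmersion i] [QuasiCompact i] : IsIso (toH1 i) := by
  have := ConormalSection.isQuasicoherent_idealMod i.ker
  have : (Omega.conormal i).IsQuasicoherent := QCohLib.isQuasicoherent_pullback i _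
  have : (sheafH1 i).IsQuasicoherent := isQCoh_of_h1Sheaf (h1Sheaf i)
  refine QCohLib.isIso_of_cover_bijective
    (fun V : {V : X.affineOpens // (V.1 : X.Opens) ≤ i.coborderRange} => i ⁻¹ᵁ V.1.1)
    (fun V => (affine_surjective i V.1.2 V.2).1) (fun x => ?_) _
    fun V => bijective_toH1 i V.1.2 (affine_surjective i V.1.2 V.2).1
      (affine_surjective i V.1.2 V.2).2
  obtain ⟨V, hVa, hxV, hV⟩ := exists_isAffineOpen_mem_and_subset
    (U := i.coborderRange) (x := i x) (subset_coborder ⟨x, rfl⟩)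
  exact ⟨⟨⟨V, hVa⟩, hV⟩, hxV⟩

/-- The conormal sheaf is `H⁻¹` of the naive cotangent complex. -/
theorem nonempty_h1Sheaf_conormal [IsImmersion i] [QuasiCompact i] :
    Nonempty (NLCx.H1Sheaf i (Omega.conormal i)) :=
  have := isIso_toH1 i
  ⟨h1SheafOfIso (asIso (toH1 i)) (h1Sheaf i)⟩

end Groth.Agent.H1Sheaf
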