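import Groth.Agent.H1Sheaf.Values
import Groth.Agent.OmegaUniv.Res
import Groth.Prelude.Def_Omega4

/-!
# The comparison map from the conormal sheaf to `H⁻¹`

* `toH1 i : Omega.conormal i ⟶ sheafH1 i` with `toH1_pullSect`.
-/

universe u

open CategoryTheory CategoryTheory.Limits AlgebraicGeometry Opposite TopologicalSpace

set_option backward.isDefEq.respectTransparency false

namespace Groth.Agent.H1Sheaf

variable {Z X : Scheme.{u}} (i : Z ⟶ X)

theorem appLE_idealSect {W V : X.Opens} (hV : V ≤ W) {U : Z.Opens} (e : U ≤ i ⁻¹ᵁ V)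
    (m : Γ(ClSub.idealMod i.ker, W)) :
    i.appLE V U e (rres hV (OmegaSh.idealSect i.ker W m)) = 0 := by
  have h : rres hV (OmegaSh.idealSect i.ker W m) =
      OmegaSh.idealSect i.ker V ((ClSub.idealMod i.ker).presheaf.map (homOfLE hV).op m) :=
    (OmegaUniv.idealSect_map i.ker hV m).symm
  rw [h]
  change (i.app V ≫ Z.presheaf.map (homOfLE e).op) _ = 0
  rw [CommRingCat.comp_apply, OmegaUniv.app_eq_zero_of_idealSect, map_zero]

/-- The classes of a section of the ideal. -/
noncomputable def idealCls (W : X.Opens) (m : Γ(ClSub.idealMod i.ker, W)) (r : Pair i)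
    (hr : (r.V : X.Opens) ≤ W) : M r :=
  zc r (rres hr (OmegaSh.idealSect i.ker W m)) (appLE_idealSect i hr r.e m)

theorem res_idealCls (W : X.Opens) (m : Γ(ClSub.idealMod i.ker, W)) (q r : Pair i) (h : Le r q)
    (hq : (q.V : X.Opens) ≤ W) :
    res h (idealCls i W m q hq) = idealCls i W m r (h.2.trans hq) := by
  have hb : i.appLE (r.V : X.Opens) (r.U : Z.Opens) r.e
      (rres h.2 (rres hq (OmegaSh.idealSect i.ker W m))) = 0 := by
    rw [rres_rres]; exact appLE_idealSect i _ r.e m
  refine (res_zc h _ _ hb).trans ?_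
  exact zc_congr r (rres_rres hq h.2 _) _ _

/-- The value of a section of the ideal on a pair over `W`. -/
noncomputable def val (W : X.Opens) (m : Γ(ClSub.idealMod i.ker, W)) (p : PairIn i (i ⁻¹ᵁ W)) :
    M p.1 :=
  (exists_value (fun r hr => idealCls i W m r hr) (res_idealCls i W m) p.2).choose

theorem res_val (W : X.Opens) (m : Γ(ClSub.idealMod i.ker, W)) (p : PairIn i (i ⁻¹ᵁ W))
    (r : Pair i) (h : Le r p.1) (hr : (r.V : X.Opens) ≤ W) :
    res h (val i W m p) = idealCls i W m r hr :=
  (exists_value (fun r hr => idealCls i W m r hr) (res_idealCls i W m) p.2).choose_spec r h hr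

theorem val_eq (W : X.Opens) (m : Γ(ClSub.idealMod i.ker, W)) (p : PairIn i (i ⁻¹ᵁ W))
    (hp : (p.1.V : X.Opens) ≤ W) : val i W m p = idealCls i W m p.1 hp := by
  rw [← res_val i W m p p.1 (Le.refl _) hp, res_refl]

theorem val_unique (W : X.Opens) (m : Γ(ClSub.idealMod i.ker, W)) (p : PairIn i (i ⁻¹ᵁ W))
    (a : M p.1)
    (ha : ∀ (r : Pair i) (h : Le r p.1) (hr : (r.V : X.Opens) ≤ W), res h a = idealCls i W m r hr) :
    a = val i W m p :=
  value_unique _ p.2 _ _ ha (res_val i W m p)

/-- The compatible family of a section of the ideal. -/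
noncomputable def famVal (W : X.Opens) (m : Γ(ClSub.idealMod i.ker, W)) :
    fam i (i ⁻¹ᵁ W) :=
  ⟨val i W m, fun p q h => val_unique i W m q _ fun r hr hrW => by
    rw [res_res]; exact res_val i W m p r _ hrW⟩

theorem famVal_add (W : X.Opens) (m m' : Γ(ClSub.idealMod i.ker, W)) :
    famVal i W (m + m') = famVal i W m + famVal i W m' :=
  Subtype.ext <| funext fun p => (val_unique i W (m + m') p _ fun r h hr => by
    change res h (val i W m p + val i W m' p) = _
    rw [map_add, res_val i W m p r h hr, res_val i W m' p r h hr]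
    refine (zc_add r _ _ _ _ ?_).symm.trans (zc_congr r ?_ _ _)
    · rw [map_add, appLE_idealSect, appLE_idealSect, add_zero]
    · rw [map_add, map_add]).symm

theorem famVal_smul (W : X.Opens) (a : Γ(X, W)) (m : Γ(ClSub.idealMod i.ker, W)) :
    famVal i W (a • m) = i.app W a • famVal i W m :=
  Subtype.ext <| funext fun p => (val_unique i W (a • m) p _ fun r h hr => by
    rw [fam_smul_apply]
    change res h (rres p.2 (i.app W a) • val i W m p) = _
    rw [res_smul, res_val i W m p r h hr, rres_rres]
    have hz : i.appLE (r.V : X.Opens) (r.U : Z.Opens) r.e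
        (rres hr a * rres hr (OmegaSh.idealSect i.ker W m)) = 0 := by
      rw [map_mul, appLE_idealSect, mul_zero]
    have h1 := zc_mul r (rres hr a) (rres hr (OmegaSh.idealSect i.ker W m))
      (appLE_idealSect i hr r.e m) hz
    have h2 : i.appLE (r.V : X.Opens) (r.U : Z.Opens) r.e (rres hr a) =
        rres (h.1.trans p.2) (i.app W a) := by
      refine (congr(($(Scheme.Hom.map_appLE i r.e (homOfLE hr).op)) a)).trans ?_
      rfl
    rw [← h2]
    refine h1.symm.trans (zc_congr r ?_ _ _)
    rw [ConormalSection.idealSect_smul, map_mul]).symm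

theorem famVal_map (W W' : X.Opens) (hW : W' ≤ W) (m : Γ(ClSub.idealMod i.ker, W)) :
    famVal i W' ((ClSub.idealMod i.ker).presheaf.map (homOfLE hW).op m) =
      famRes (i.preimage_mono hW) (famVal i W m) :=
  Subtype.ext <| funext fun p => (val_unique i W' _ p _ fun r h hr => by
    refine (res_val i W m ⟨p.1, p.2.trans (i.preimage_mono hW)⟩ r h (hr.trans hW)).trans ?_
    refine zc_congr r ?_ _ _
    rw [OmegaUniv.idealSect_map]
    exact (rres_rres hW hr _).symm).symm

/-- Into the direct image. -/
noncomputable def toPush : ClSub.idealMod i.ker ⟶ (Scheme.Modules.pushforward i).obj (sheafH1 i) :=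
  ⟨PresheafOfModules.homMk
    { app := fun W => AddCommGrpCat.ofHom
        (AddMonoidHom.mk' (fun m => (show ((Scheme.Modules.pushforward i).obj (sheafH1 i)).presheaf.obj W
          from famVal i W.unop m)) (famVal_add i W.unop))
      naturality := fun W W' j => by
        ext m
        exact famVal_map i W.unop W'.unop j.unop.le m }
    fun W a m => famVal_smul i W.unop a m⟩

/-- The comparison map. -/
noncomputable def toH1 : Omega.conormal i ⟶ sheafH1 i :=
  ((Scheme.Modules.pullbackPushforwardAdjunction i).homEquiv _ _).symm (toPush i)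

theorem toH1_pullSect (W : X.Opens) (m : Γ(ClSub.idealMod i.ker, W)) :
    (toH1 i).app (i ⁻¹ᵁ W) (OmegaSh.pullSect i (ClSub.idealMod i.ker) W m) =
      (show Γ(sheafH1 i, i ⁻¹ᵁ W) from famVal i W m) := by
  have h : (Scheme.Modules.pullbackPushforwardAdjunction i).unit.app (ClSub.idealMod i.ker) ≫
      (Scheme.Modules.pushforward i).map (toH1 i) = toPush i := by
    exact (Adjunction.homEquiv_unit (Scheme.Modules.pullbackPushforwardAdjunction i) _ _ _).symm.trans
      (((Scheme.Modules.pullbackPushforwardAdjunction i).homEquiv _ _).apply_symm_apply _)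
  exact congr(($h).app W m)

end Groth.Agent.H1Sheaf
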