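import Groth.Agent.H1Sheaf.Chart
import Mathlib.RingTheory.Ideal.Operations

/-!
# Locality of the chart modules

* `ext_local`: elements agreeing on smaller pairs covering the source are equal;
* `exists_glue`: compatible local elements glue.
-/

universe u

open CategoryTheory CategoryTheory.Limits AlgebraicGeometry Opposite TopologicalSpace

set_option backward.isDefEq.respectTransparency false

namespace Groth.Agent.H1Sheaf

variable {X Y : Scheme.{u}} {f : X ⟶ Y}

/-- The pair with source a basic open of the source. -/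
def basic (p : Pair f) (g : Γ(X, (p.U : X.Opens))) : Pair f :=
  ⟨⟨X.basicOpen g, p.U.2.basicOpen g⟩, p.V, (X.basicOpen_le g).trans p.e⟩

theorem basic_le (p : Pair f) (g : Γ(X, (p.U : X.Opens))) : Le (basic p g) p :=
  ⟨X.basicOpen_le g, le_rfl⟩

theorem span_eq_top {p : Pair f} (S : Set Γ(X, (p.U : X.Opens)))
    (hS : ∀ y ∈ (p.U : X.Opens), ∃ g ∈ S, y ∈ X.basicOpen g) : Ideal.span S = ⊤ :=
  p.U.2.self_le_iSup_basicOpen_iff.mp fun y hy => by
    obtain ⟨g, hg, hyg⟩ := hS y hy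
    exact Opens.mem_iSup.mpr ⟨⟨g, hg⟩, hyg⟩

theorem eq_zero_of_basic {p : Pair f} (S : Set Γ(X, (p.U : X.Opens))) (hS : Ideal.span S = ⊤)
    (x : M p) (hx : ∀ g ∈ S, res (basic_le p g) x = 0) : x = 0 := by
  let J : Ideal Γ(X, (p.U : X.Opens)) := LinearMap.ker (LinearMap.toSpanSingleton _ (M p) x)
  suffices h : J.radical = ⊤ by
    have h1 : (1 : Γ(X, (p.U : X.Opens))) ∈ J := by
      obtain ⟨n, hn⟩ : (1 : Γ(X, (p.U : X.Opens))) ∈ J.radical := h ▸ Submodule.mem_top
      rwa [one_pow] at hn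
    simpa [J] using h1
  rw [eq_top_iff, ← hS, Ideal.span_le]
  intro g hg
  obtain ⟨n, hn⟩ := (res_loc (basic_le p g) g rfl).1 x (hx g hg)
  exact ⟨n, by simpa [J] using hn⟩

/-- Elements agreeing on smaller pairs covering the source are equal. -/
theorem ext_local {p : Pair f} (x x' : M p)
    (h : ∀ y ∈ (p.U : X.Opens), ∃ (q : Pair f) (hq : Le q p), y ∈ (q.U : X.Opens) ∧
      res hq x = res hq x') : x = x' := by
  refine sub_eq_zero.mp (eq_zero_of_basic {g | res (basic_le p g) (x - x') = 0}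
    (span_eq_top _ fun y hy => ?_) _ fun g hg => hg)
  obtain ⟨q, hq, hyq, hx⟩ := h y hy
  obtain ⟨g, hgq, hyg⟩ := p.U.2.exists_basicOpen_le ⟨y, hyq⟩ hy
  let r : Pair f := ⟨(basic p g).U, q.V, hgq.trans q.e⟩
  have hr : Le r (basic p g) := ⟨le_rfl, hq.2⟩
  have hrq : Le r q := ⟨hgq, le_rfl⟩
  refine ⟨g, ?_, hyg⟩
  show res (basic_le p g) (x - x') = 0
  apply (bijective_res hr rfl).1
  rw [map_zero, res_res, map_sub, ← res_res hrq hq, ← res_res hrq hq x', hx, sub_self]

theorem exists_glue_finite {p : Pair f} (t : Finset Γ(X, (p.U : X.Opens)))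
    (ht : Ideal.span (t : Set Γ(X, (p.U : X.Opens))) = ⊤) (y : ∀ g : t, M (basic p g.1))
    (hc : ∀ (a b : t) (q : Pair f) (ha : Le q (basic p a.1)) (hb : Le q (basic p b.1)),
      res ha (y a) = res hb (y b)) :
    ∃ x : M p, ∀ a : t, res (basic_le p a.1) x = y a := by
  classical
  have hloc : ∀ a : t, ∃ n : ℕ, ∀ k ≥ n, ∃ x : M p,
      res (basic_le p a.1) x = (rres (basic_le p a.1).1 a.1) ^ k • y a := fun a => by
    obtain ⟨n, x, hx⟩ := (res_loc (basic_le p a.1) a.1 rfl).2 (y a)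
    refine ⟨n, fun k hk => ⟨a.1 ^ (k - n) • x, ?_⟩⟩
    rw [res_smul, hx, map_pow, ← mul_smul, ← pow_add, Nat.sub_add_cancel hk]
  choose n hn using hloc
  let N := Finset.univ.sup n
  choose x hx using fun a => hn a N (Finset.le_sup (Finset.mem_univ a))
  have hov : ∀ ab : t × t, ∃ m : ℕ, ∀ k ≥ m,
      (ab.1.1 * ab.2.1) ^ k • (ab.2.1 ^ N • x ab.1 - ab.1.1 ^ N • x ab.2) = 0 := by
    rintro ⟨a, b⟩
    have hle := basic_le p (a.1 * b.1)
    have ha : Le (basic p (a.1 * b.1)) (basic p a.1) :=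
      ⟨(X.basicOpen_mul _ _).le.trans inf_le_left, le_rfl⟩
    have hb : Le (basic p (a.1 * b.1)) (basic p b.1) :=
      ⟨(X.basicOpen_mul _ _).le.trans inf_le_right, le_rfl⟩
    obtain ⟨m, hm⟩ := (res_loc hle (a.1 * b.1) rfl).1 (b.1 ^ N • x a - a.1 ^ N • x b) (by
      rw [map_sub, res_smul, res_smul, ← res_res ha (basic_le p a.1) (x a),
        ← res_res hb (basic_le p b.1) (x b), hx, hx, res_smul, res_smul, hc a b _ ha hb,
        map_pow, map_pow, map_pow, map_pow]
      erw [rres_rres, rres_rres]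
      rw [← mul_smul, ← mul_smul, sub_eq_zero]
      exact congrArg (· • _) (mul_comm _ _))
    refine ⟨m, fun k hk => ?_⟩
    rw [← Nat.sub_add_cancel hk, pow_add, mul_smul]
    exact (congrArg (_ • ·) hm).trans (smul_zero _)
  choose m hm using hov
  let K := Finset.univ.sup m
  have hG : Ideal.span (Set.range fun a : t => a.1 ^ (K + N)) = ⊤ := by
    have h := Ideal.span_pow_eq_top _ ht (K + N)
    rwa [Set.image_eq_range] at h
  obtain ⟨c, hc'⟩ := (Ideal.mem_span_range_iff_exists_fun).mp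
    ((Ideal.eq_top_iff_one _).mp hG)
  refine ⟨∑ a, c a • (a.1 ^ K • x a), fun b => ?_⟩
  have h1 : b.1 ^ (K + N) • (∑ a, c a • (a.1 ^ K • x a)) = b.1 ^ K • x b := by
    rw [Finset.smul_sum]
    calc ∑ a, b.1 ^ (K + N) • c a • (a.1 ^ K • x a)
        = ∑ a, (c a * a.1 ^ (K + N)) • (b.1 ^ K • x b) := Finset.sum_congr rfl fun a _ => by
          have h := hm (a, b) K (Finset.le_sup (Finset.mem_univ (a, b)))
          rw [smul_sub, sub_eq_zero, mul_pow, ← mul_smul, ← mul_smul] at h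
          rw [← mul_smul, ← mul_smul, ← mul_smul]
          have h' := congrArg (c a • ·) h
          simp only [← mul_smul] at h'
          refine Eq.trans ?_ (h'.trans ?_) <;> congr 1 <;> ring
      _ = b.1 ^ K • x b := by rw [← Finset.sum_smul, hc', one_smul]
  have h2 := congrArg (res (basic_le p b.1)) h1
  rw [res_smul, res_smul, hx, map_pow, map_pow, ← mul_smul, ← pow_add] at h2
  refine (IsUnit.smul_left_cancel ?_).mp h2
  exact IsUnit.pow _ (RingedSpace.isUnit_res_basicOpen _ b.1)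

/-- Compatible local elements glue. -/
theorem exists_glue {p : Pair f} (P : ∀ q : Pair f, Le q p → M q → Prop)
    (huniq : ∀ (q : Pair f) (h : Le q p) (a b : M q), P q h a → P q h b → a = b)
    (hres : ∀ (q r : Pair f) (h : Le q p) (h' : Le r q) (a : M q), P q h a →
      P r (h'.trans h) (res h' a))
    (hex : ∀ y ∈ (p.U : X.Opens), ∃ g : Γ(X, (p.U : X.Opens)), y ∈ X.basicOpen g ∧
      ∃ a, P (basic p g) (basic_le p g) a) :
    ∃ x : M p, ∀ y ∈ (p.U : X.Opens), ∃ g : Γ(X, (p.U : X.Opens)), y ∈ X.basicOpen g ∧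
      P (basic p g) (basic_le p g) (res (basic_le p g) x) := by
  classical
  obtain ⟨t, hts, ht⟩ := Submodule.mem_span_finite_of_mem_span ((Ideal.eq_top_iff_one _).mp
    (span_eq_top {g | ∃ a, P (basic p g) (basic_le p g) a} fun y hy => by
      obtain ⟨g, hyg, ha⟩ := hex y hy
      exact ⟨g, ha, hyg⟩))
  have ht' : Ideal.span (t : Set Γ(X, (p.U : X.Opens))) = ⊤ := (Ideal.eq_top_iff_one _).mpr ht
  choose a ha using fun g : t => hts g.2
  obtain ⟨x, hx⟩ := exists_glue_finite t ht' a fun g g' q h h' =>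
    huniq q (h.trans (basic_le p _)) _ _ (hres _ q _ h _ (ha g)) (hres _ q _ h' _ (ha g'))
  refine ⟨x, fun y hy => ?_⟩
  obtain ⟨g, hg⟩ := Opens.mem_iSup.mp (p.U.2.self_le_iSup_basicOpen_iff.mpr ht' hy)
  exact ⟨g.1, hg, by rw [hx g]; exact ha g⟩

end Groth.Agent.H1Sheaf
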