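import Mathlib.RingTheory.Etale.Kaehler
import Mathlib.RingTheory.Kaehler.JacobiZariski
import Mathlib.Algebra.Category.Ring.Epi
import Mathlib.Algebra.Category.Ring.Constructions
import Mathlib.RingTheory.Extension.Cotangent.BaseChange

/-!
# `H¹` of the naive cotangent complex under flat epimorphisms of the base and localisations

* `bijective_map_of_epi`: for `A → A' → C` with `A → A'` a flat epimorphism,
  `H¹(L_{C/A}) → H¹(L_{C/A'})` is bijective;
* `exists_pow_smul_eq_zero`, `exists_map_eq_pow_smul`: `H¹(L_{C/A}) → H¹(L_{C'/A'})` is a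
  localisation at `h` when `C' = C_h`.
-/

universe u

open CategoryTheory CategoryTheory.Limits TensorProduct

set_option backward.isDefEq.respectTransparency false

namespace Groth.Agent.H1Sheaf

section Comp

variable {A A' A'' C C' C'' : Type u} [CommRing A] [CommRing A'] [CommRing A''] [CommRing C]
  [CommRing C'] [CommRing C''] [Algebra A C] [Algebra A' C'] [Algebra A'' C''] [Algebra A A']
  [Algebra A' A''] [Algebra A A''] [Algebra A C'] [Algebra A C''] [Algebra A' C''] [Algebra C C']
  [Algebra C' C''] [Algebra C C''] [IsScalarTower A A' C'] [IsScalarTower A C C']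
  [IsScalarTower A' A'' C''] [IsScalarTower A' C' C''] [IsScalarTower A A'' C'']
  [IsScalarTower A C C''] [IsScalarTower C C' C''] [IsScalarTower A A' A'']

theorem map_map (x : Algebra.H1Cotangent A C) :
    Algebra.H1Cotangent.map A' A'' C' C'' (Algebra.H1Cotangent.map A A' C C' x) =
      Algebra.H1Cotangent.map A A'' C C'' x := by
  have : IsScalarTower A A' C'' := .of_algebraMap_eq fun a => by
    rw [IsScalarTower.algebraMap_apply A' A'' C'', ← IsScalarTower.algebraMap_apply A A' A'',
      ← IsScalarTower.algebraMap_apply A A'' C'']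
  simp only [Algebra.H1Cotangent.map]
  rw [← Algebra.Extension.H1Cotangent.map_comp_apply]
  exact congr($(Algebra.Extension.H1Cotangent.map_eq _ _) x)

end Comp

section Epi

variable (A A' C : Type u) [CommRing A] [CommRing A'] [CommRing C] [Algebra A A'] [Algebra A C]
  [Algebra A' C] [IsScalarTower A A' C]

/-- Along an epimorphism `A → A'`, an `A'`-algebra is its own base change. -/
theorem isPushout_of_epi (hepi : Epi (CommRingCat.ofHom (algebraMap A A'))) :
    Algebra.IsPushout A A' C C := by
  refine CommRingCat.isPushout_iff_isPushout.mp ?_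
  have w : CommRingCat.ofHom (algebraMap A A') ≫ CommRingCat.ofHom (algebraMap A' C) =
      CommRingCat.ofHom (algebraMap A C) ≫ CommRingCat.ofHom (algebraMap C C) := by
    ext a
    exact (IsScalarTower.algebraMap_apply A A' C a).symm
  have hid : CommRingCat.ofHom (algebraMap C C) = 𝟙 (CommRingCat.of C) := rfl
  refine ⟨⟨w⟩, ⟨PushoutCocone.IsColimit.mk w (fun s => s.inr) (fun s => ?_) (fun s => ?_)
    (fun s m _ h2 => ?_)⟩⟩
  · have := hepi
    refine (cancel_epi (CommRingCat.ofHom (algebraMap A A'))).mp ?_
    rw [s.condition, ← Category.assoc, w, hid, Category.comp_id]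
  · rw [hid, Category.id_comp]
  · rwa [hid, Category.id_comp] at h2

theorem bijective_map_of_epi [Module.Flat A A'] (hepi : Epi (CommRingCat.ofHom (algebraMap A A'))) :
    Function.Bijective (Algebra.H1Cotangent.map A A' C C) := by
  have := isPushout_of_epi A A' C hepi
  let D : Type u := A' ⊗[A] C
  let e₀ : D ≃ₐ[A'] C := Algebra.IsPushout.equiv A A' C C
  letI : Algebra C D := Algebra.TensorProduct.rightAlgebra
  letI : Algebra D C := e₀.toRingHom.toAlgebra
  have : IsScalarTower A C D := inferInstanceAs (IsScalarTower A C (A' ⊗[A] C))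
  have : IsScalarTower A A' D := inferInstanceAs (IsScalarTower A A' (A' ⊗[A] C))
  have : IsScalarTower A' D C := .of_algebraMap_eq fun a => (e₀.commutes a).symm
  have : IsScalarTower C D C := .of_algebraMap_eq fun c => by
    change c = e₀ ((1 : A') ⊗ₜ[A] c)
    exact ((Algebra.IsPushout.equiv_tmul A A' C C 1 c).trans (by rw [map_one, one_mul]; rfl)).symm
  let e := Algebra.IsPushout.cancelBaseChange A A' C C (Algebra.H1Cotangent A C)
  have h1 : ∀ x, e ((1 : C) ⊗ₜ[C] x) = (1 : A') ⊗ₜ[A] x := fun x =>
    Algebra.IsPushout.cancelBaseChange_tmul A A' C C _ x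
  have heq : ⇑(Algebra.H1Cotangent.map A A' C C) = Algebra.H1Cotangent.map A' A' D C ∘
      Algebra.tensorH1CotangentOfFlat A C A' ∘ e ∘
      (TensorProduct.lid C (Algebra.H1Cotangent A C)).symm := by
    funext x
    simp only [Function.comp_apply, TensorProduct.lid_symm_apply, h1]
    rw [← map_map (A := A) (A' := A') (A'' := A') (C := C) (C' := D) (C'' := C) x]
    congr 1
    exact ((Algebra.tensorH1CotangentOfFlat_tmul A C A' 1 x).trans (one_smul _ _)).symm
  rw [heq]
  refine Function.Bijective.comp ?_ ((LinearEquiv.bijective _).comp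
    ((LinearEquiv.bijective _).comp (LinearEquiv.bijective _)))
  exact (Algebra.H1Cotangent.mapEquiv A' D C e₀).bijective

end Epi


section Loc

variable {A A' C C' : Type u} [CommRing A] [CommRing A'] [CommRing C] [CommRing C'] [Algebra A A']
  [Algebra A C] [Algebra A' C'] [Algebra A C'] [Algebra C C'] [IsScalarTower A A' C']
  [IsScalarTower A C C'] [Module.Flat A A'] (hepi : Epi (CommRingCat.ofHom (algebraMap A A')))
  (h : C) [IsLocalization.Away h C']

omit [Module.Flat A A'] in
theorem map_eq_comp (x : Algebra.H1Cotangent A C) :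
    Algebra.H1Cotangent.map A A' C C' x =
      Algebra.H1Cotangent.map A A' C' C' (Algebra.H1Cotangent.map A A C C' x) :=
  (map_map (A := A) (A' := A) (A'' := A') (C := C) (C' := C') (C'' := C') x).symm

include hepi in
theorem exists_pow_smul_eq_zero (x : Algebra.H1Cotangent A C)
    (hx : Algebra.H1Cotangent.map A A' C C' x = 0) : ∃ n : ℕ, h ^ n • x = 0 := by
  rw [map_eq_comp] at hx
  have h0 : Algebra.H1Cotangent.map A A C C' x = 0 :=
    (bijective_map_of_epi A A' C' hepi).1 (hx.trans (map_zero _).symm)
  obtain ⟨⟨_, n, rfl⟩, hn⟩ := (IsLocalizedModule.eq_zero_iff (Submonoid.powers h)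
    (Algebra.H1Cotangent.map A A C C')).mp h0
  exact ⟨n, hn⟩

include hepi in
theorem exists_map_eq_pow_smul (y : Algebra.H1Cotangent A' C') :
    ∃ (n : ℕ) (x : Algebra.H1Cotangent A C),
      Algebra.H1Cotangent.map A A' C C' x = (algebraMap C C' h) ^ n • y := by
  obtain ⟨z, rfl⟩ := (bijective_map_of_epi A A' C' hepi).2 y
  obtain ⟨⟨x, ⟨_, n, rfl⟩⟩, hx⟩ := IsLocalizedModule.surj (Submonoid.powers h)
    (Algebra.H1Cotangent.map A A C C') z
  refine ⟨n, x, ?_⟩
  rw [map_eq_comp, ← hx, ← map_smul]
  congr 1
  rw [← map_pow, algebraMap_smul]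
  rfl

end Loc

end Groth.Agent.H1Sheaf
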