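import Groth.Agent.H1Sheaf.Local
import Mathlib.Algebra.Category.ModuleCat.Presheaf
import Mathlib.Topology.Sheaves.SheafCondition.UniqueGluing

/-!
# The sheaf `H⁻¹` of the naive cotangent complex

* `sheafH1 f : X.Modules`, `h1Sheaf f : NLCx.H1Sheaf f (sheafH1 f)`.
-/

universe u

open CategoryTheory CategoryTheory.Limits AlgebraicGeometry Opposite TopologicalSpace

set_option backward.isDefEq.respectTransparency false

namespace Groth.Agent.H1Sheaf

variable {X Y : Scheme.{u}} (f : X ⟶ Y)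

/-- Pairs with source inside `W`. -/
abbrev PairIn (W : X.Opens) : Type u := {p : Pair f // (p.U : X.Opens) ≤ W}

/-- Compatible families. -/
noncomputable def fam (W : X.Opens) : AddSubgroup (∀ p : PairIn f W, M p.1) where
  carrier := {s | ∀ (p q : PairIn f W) (h : Le q.1 p.1), res h (s p) = s q}
  zero_mem' p q h := by simp
  add_mem' ha hb p q h := by simp [ha p q h, hb p q h]
  neg_mem' ha p q h := by simp [ha p q h]

variable {f}

theorem fam_compat {W : X.Opens} (s : fam f W) {p q : PairIn f W} (h : Le q.1 p.1) :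
    res h (s.1 p) = s.1 q := s.2 p q h

noncomputable instance (W : X.Opens) : SMul Γ(X, W) (fam f W) where
  smul a s := ⟨fun p => rres p.2 a • s.1 p, fun p q h => by
    dsimp only
    rw [res_smul, rres_rres, fam_compat s h]⟩

theorem fam_smul_apply {W : X.Opens} (a : Γ(X, W)) (s : fam f W) (p : PairIn f W) :
    (a • s).1 p = rres p.2 a • s.1 p := rfl

noncomputable instance (W : X.Opens) : Module Γ(X, W) (fam f W) where
  one_smul s := Subtype.ext <| funext fun p => by simp [fam_smul_apply]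
  mul_smul a b s := Subtype.ext <| funext fun p => by simp [fam_smul_apply, mul_smul]
  smul_zero a := Subtype.ext <| funext fun p => by simp [fam_smul_apply]
  smul_add a s t := Subtype.ext <| funext fun p => by simp [fam_smul_apply]
  add_smul a b s := Subtype.ext <| funext fun p => by simp [fam_smul_apply, add_smul]
  zero_smul s := Subtype.ext <| funext fun p => by simp [fam_smul_apply]

/-- Restriction of families. -/
noncomputable def famRes {W W' : X.Opens} (h : W' ≤ W) : fam f W →+ fam f W' where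
  toFun s := ⟨fun p => s.1 ⟨p.1, p.2.trans h⟩, fun p q hq =>
    fam_compat s (p := ⟨p.1, p.2.trans h⟩) (q := ⟨q.1, q.2.trans h⟩) hq⟩
  map_zero' := Subtype.ext (funext fun _ => rfl)
  map_add' _ _ := Subtype.ext (funext fun _ => rfl)

variable (f)

/-- The presheaf of compatible families. -/
noncomputable def presheaf : TopCat.Presheaf AddCommGrpCat.{u} X.carrier where
  obj W := AddCommGrpCat.of (fam f W.unop)
  map i := AddCommGrpCat.ofHom (famRes i.unop.le)
  map_id W := rfl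
  map_comp i j := rfl

noncomputable instance (W : (Opens X)ᵒᵖ) :
    Module (X.ringCatSheaf.obj.obj W) ((presheaf f).obj W) :=
  inferInstanceAs (Module Γ(X, W.unop) (fam f W.unop))

/-- The presheaf of modules. -/
noncomputable def presheafMod : PresheafOfModules X.ringCatSheaf.obj :=
  PresheafOfModules.ofPresheaf (presheaf f) fun W W' i a s => Subtype.ext <| funext fun p => by
    change rres (p.2.trans i.unop.le) a • s.1 ⟨p.1, _⟩ =
      rres p.2 (rres i.unop.le a) • s.1 ⟨p.1, _⟩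
    rw [rres_rres]

theorem isSheaf_presheaf : TopCat.Presheaf.IsSheaf (presheaf f) := by
  rw [TopCat.Presheaf.isSheaf_iff_isSheafUniqueGluing]
  intro ι V sf hsf
  have hcomp : ∀ (i j : ι) (p : Pair f) (hi : (p.U : X.Opens) ≤ V i) (hj : (p.U : X.Opens) ≤ V j),
      (sf i).1 ⟨p, hi⟩ = (sf j).1 ⟨p, hj⟩ := fun i j p hi hj =>
    congrArg (fun s : fam f (V i ⊓ V j) => s.1 ⟨p, le_inf hi hj⟩) (hsf i j)
  -- values on a pair
  let P : ∀ (p : Pair f) (q : Pair f), Le q p → M q → Prop :=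
    fun _ q _ a => ∀ (i : ι) (r : Pair f) (h : Le r q) (hr : (r.U : X.Opens) ≤ V i),
      res h a = (sf i).1 ⟨r, hr⟩
  have hex : ∀ p : PairIn f (iSup V), ∃ x : M p.1, P p.1 p.1 (Le.refl _) x := by
    intro p
    have hcov : ∀ y ∈ (p.1.U : X.Opens), ∃ g : Γ(X, (p.1.U : X.Opens)), y ∈ X.basicOpen g ∧
        ∃ i, X.basicOpen g ≤ V i := fun y hy => by
      obtain ⟨i, hi⟩ := Opens.mem_iSup.mp (p.2 hy)
      obtain ⟨g, hg, hyg⟩ := p.1.U.2.exists_basicOpen_le ⟨y, hi⟩ hy
      exact ⟨g, hyg, i, hg⟩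
    have huniq : ∀ (q : Pair f) (h : Le q p.1) (a b : M q), P p.1 q h a → P p.1 q h b → a = b := by
      intro q h a b ha hb
      refine ext_local a b fun y hy => ?_
      obtain ⟨i, hi⟩ := Opens.mem_iSup.mp (p.2 (h.1 hy))
      obtain ⟨g, hg, hyg⟩ := q.U.2.exists_basicOpen_le ⟨y, hi⟩ hy
      exact ⟨basic q g, basic_le q g, hyg,
        (ha i _ (basic_le q g) hg).trans (hb i _ (basic_le q g) hg).symm⟩
    obtain ⟨x, hx⟩ := exists_glue (P p.1) huniq
      (fun q r h h' a ha i t ht htV => by rw [res_res]; exact ha i t _ htV)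
      (fun y hy => by
        obtain ⟨g, hyg, i, hg⟩ := hcov y hy
        refine ⟨g, hyg, (sf i).1 ⟨basic p.1 g, hg⟩, fun j r h hr => ?_⟩
        rw [hcomp j i r hr (h.1.trans hg)]
        exact fam_compat (sf i) (p := ⟨basic p.1 g, hg⟩) (q := ⟨r, h.1.trans hg⟩) h)
    refine ⟨x, fun i r h hr => ?_⟩
    refine ext_local _ _ fun y hy => ?_
    obtain ⟨g, hyg, hPg⟩ := hx y (h.1 hy)
    obtain ⟨g', hg', hyg'⟩ := r.U.2.exists_basicOpen_le ⟨y, hyg⟩ hy
    have h1 : Le (basic r g') (basic p.1 g) := ⟨hg', h.2⟩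
    refine ⟨basic r g', basic_le r g', hyg', ?_⟩
    rw [fam_compat (sf i) (p := ⟨r, hr⟩) (q := ⟨basic r g', (X.basicOpen_le g').trans hr⟩)
      (basic_le r g'), res_res]
    have := hPg i (basic r g') h1 ((X.basicOpen_le g').trans hr)
    rwa [res_res] at this
  choose x hx using hex
  refine ⟨⟨x, fun p q h => ?_⟩, fun i => ?_, fun t ht => ?_⟩
  · refine ext_local _ _ fun y hy => ?_
    obtain ⟨i, hi⟩ := Opens.mem_iSup.mp (q.2 hy)
    obtain ⟨g, hg, hyg⟩ := q.1.U.2.exists_basicOpen_le ⟨y, hi⟩ hy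
    refine ⟨basic q.1 g, basic_le q.1 g, hyg, ?_⟩
    rw [res_res]
    exact (hx p i _ _ hg).trans (hx q i _ (basic_le q.1 g) hg).symm
  · refine Subtype.ext (funext fun p => ?_)
    have := hx ⟨p.1, p.2.trans (le_iSup V i)⟩ i p.1 (Le.refl _) p.2
    rwa [res_refl] at this
  · refine Subtype.ext (funext fun p => ext_local _ _ fun y hy => ?_)
    obtain ⟨i, hi⟩ := Opens.mem_iSup.mp (p.2 hy)
    obtain ⟨g, hg, hyg⟩ := p.1.U.2.exists_basicOpen_le ⟨y, hi⟩ hy
    refine ⟨basic p.1 g, basic_le p.1 g, hyg, ?_⟩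
    refine ((fam_compat t (p := p) (q := ⟨basic p.1 g, (X.basicOpen_le g).trans p.2⟩)
      (basic_le p.1 g)).trans ?_).trans (hx p i _ (basic_le p.1 g) hg).symm
    exact congrArg (fun s : fam f (V i) => s.1 ⟨basic p.1 g, hg⟩) (ht i)

/-- The sheaf of modules `H⁻¹` of the naive cotangent complex. -/
noncomputable def sheafH1 : X.Modules :=
  ⟨presheafMod f, isSheaf_presheaf f⟩

variable {f}

/-- Agreement of an element with a given one on common smaller pairs. -/
def Agree (p₀ : Pair f) (m : M p₀) (q : Pair f) (a : M q) : Prop :=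
  ∀ (r : Pair f) (h : Le r q) (h₀ : Le r p₀), res h a = res h₀ m

theorem exists_small {p p₀ : Pair f} {y : X} (hy : y ∈ (p.U : X.Opens))
    (hy₀ : y ∈ (p₀.U : X.Opens)) : ∃ (g : Γ(X, (p.U : X.Opens))) (r : Pair f),
      y ∈ X.basicOpen g ∧ (r.U : X.Opens) = X.basicOpen g ∧ Le r (basic p g) ∧ Le r p₀ := by
  have hv : f y ∈ (p.V : Y.Opens) ⊓ (p₀.V : Y.Opens) := ⟨p.e hy, p₀.e hy₀⟩
  obtain ⟨W, hW, hyW, hWle⟩ := exists_isAffineOpen_mem_and_subset hv
  let O : X.Opens := (p₀.U : X.Opens) ⊓ f ⁻¹ᵁ W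
  obtain ⟨g, hg, hyg⟩ := p.U.2.exists_basicOpen_le (V := O) ⟨y, hy₀, hyW⟩ hy
  exact ⟨g, ⟨(basic p g).U, ⟨W, hW⟩, hg.trans inf_le_right⟩, hyg, rfl,
    ⟨le_rfl, fun z hz => (hWle hz).1⟩, ⟨hg.trans inf_le_left, fun z hz => (hWle hz).2⟩⟩

theorem agree_unique {p₀ : Pair f} (m : M p₀) {q : Pair f}
    (hq : (q.U : X.Opens) ≤ p₀.U) (a b : M q) (ha : Agree p₀ m q a) (hb : Agree p₀ m q b) :
    a = b := by
  refine ext_local a b fun y hy => ?_
  obtain ⟨g, r, hyg, hrU, hr, hr₀⟩ := exists_small hy (hq hy)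
  exact ⟨r, hr.trans (basic_le q g), hrU ▸ hyg,
    (ha r _ hr₀).trans (hb r _ hr₀).symm⟩

theorem exists_agree {p₀ : Pair f} (m : M p₀) (p : Pair f) (hp : (p.U : X.Opens) ≤ p₀.U) :
    ∃ x : M p, Agree p₀ m p x := by
  obtain ⟨x, hx⟩ := exists_glue (p := p) (fun q _ a => Agree p₀ m q a)
    (fun q h a b => agree_unique m (h.1.trans hp) a b)
    (fun q r h h' a ha t ht ht₀ => by rw [res_res]; exact ha t _ ht₀)
    (fun y hy => by
      obtain ⟨g, r, hyg, hrU, hr, hr₀⟩ := exists_small hy (hp hy)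
      obtain ⟨a, ha⟩ := (bijective_res hr hrU).2 (res hr₀ m)
      refine ⟨g, hyg, a, fun t ht ht₀ => ext_local _ _ fun z hz => ?_⟩
      -- common pair below `t` and `r`
      obtain ⟨g', s, hzg, hsU, hs, hsr⟩ := exists_small (p := t) (p₀ := r) hz
        (hrU.ge (ht.1 hz))
      refine ⟨s, hs.trans (basic_le t g'), hsU ▸ hzg, ?_⟩
      rw [res_res, res_res, ← res_res hsr hr a |>.trans rfl, ha, res_res])
  refine ⟨x, fun r h h₀ => ext_local _ _ fun y hy => ?_⟩
  obtain ⟨g, hyg, hPg⟩ := hx y (h.1 hy)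
  obtain ⟨g', hg', hyg'⟩ := r.U.2.exists_basicOpen_le ⟨y, hyg⟩ hy
  refine ⟨basic r g', basic_le r g', hyg', ?_⟩
  have := hPg (basic r g') ⟨hg', h.2⟩ ((basic_le r g').trans h₀)
  rw [res_res] at this
  rw [res_res, res_res]
  exact this

/-- Evaluation at a pair. -/
noncomputable def ev (p : Pair f) : fam f (p.U : X.Opens) →+ M p where
  toFun s := s.1 ⟨p, le_rfl⟩
  map_zero' := rfl
  map_add' _ _ := rfl

theorem bijective_ev (p₀ : Pair f) : Function.Bijective (ev p₀) := by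
  refine ⟨(injective_iff_map_eq_zero _).mpr fun s hs => Subtype.ext (funext fun p => ?_), fun m => ?_⟩
  · refine agree_unique (0 : M p₀) p.2 _ _ (fun r h h₀ => ?_) fun r h h₀ => by simp
    rw [fam_compat s (p := p) (q := ⟨r, h₀.1⟩) h,
      ← fam_compat s (p := ⟨p₀, le_rfl⟩) (q := ⟨r, h₀.1⟩) h₀]
    exact congrArg (res h₀) hs
  · choose x hx using fun p : PairIn f (p₀.U : X.Opens) => exists_agree m p.1 p.2
    refine ⟨⟨x, fun p q h => agree_unique m q.2 _ _ (fun r hr hr₀ => ?_) (hx q)⟩, ?_⟩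
    · rw [res_res]; exact hx p r _ hr₀
    · have := hx ⟨p₀, le_rfl⟩ p₀ (Le.refl _) (Le.refl _)
      rwa [res_refl, res_refl] at this

variable (f)

/-- The identifications with the chart modules. -/
noncomputable def h1Sheaf : NLCx.H1Sheaf f (sheafH1 f) where
  iso U V e := AddEquiv.ofBijective (ev (⟨U, V, e⟩ : Pair f)) (bijective_ev _)
  map_smul U V e a m := by
    change rres le_rfl a • (show fam f U.1 from m).1 ⟨⟨U, V, e⟩, le_rfl⟩ = _
    congr 1
    exact congrArg (fun φ => φ a) (X.presheaf.map_id (op U.1))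
  map_res {U U' V V'} e e' hU hV m :=
    (fam_compat (show fam f U.1 from m) (p := ⟨⟨U, V, e⟩, le_rfl⟩)
      (q := ⟨⟨U', V', e'⟩, hU⟩) ⟨hU, hV⟩).symm

end Groth.Agent.H1Sheaf
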