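import Groth.Agent.H1Sheaf.Sheaf
import Groth.Agent.H1Sheaf.Class

/-!
# Classes of functions vanishing along the morphism, and values spread from small pairs

* `zc`, `res_zc`; `exists_value`, `value_unique`: elements determined on pairs with target in `W`.
-/

universe u

open CategoryTheory CategoryTheory.Limits AlgebraicGeometry Opposite TopologicalSpace

set_option backward.isDefEq.respectTransparency false

namespace Groth.Agent.H1Sheaf

variable {X Y : Scheme.{u}} {f : X ⟶ Y}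

/-- The class of a function on the target vanishing on the source. -/
noncomputable def zc (p : Pair f) (a : Γ(Y, (p.V : Y.Opens)))
    (ha : f.appLE (p.V : Y.Opens) (p.U : X.Opens) p.e a = 0) : M p :=
  letI := (f.appLE (p.V : Y.Opens) (p.U : X.Opens) p.e).hom.toAlgebra
  cls (A := Γ(Y, (p.V : Y.Opens))) (C := Γ(X, (p.U : X.Opens))) a ha

theorem zc_congr (p : Pair f) {a b : Γ(Y, (p.V : Y.Opens))} (h : a = b)
    (ha : f.appLE (p.V : Y.Opens) (p.U : X.Opens) p.e a = 0)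
    (hb : f.appLE (p.V : Y.Opens) (p.U : X.Opens) p.e b = 0) : zc p a ha = zc p b hb := by
  subst h; rfl

theorem zc_add (p : Pair f) (a b : Γ(Y, (p.V : Y.Opens)))
    (ha : f.appLE (p.V : Y.Opens) (p.U : X.Opens) p.e a = 0)
    (hb : f.appLE (p.V : Y.Opens) (p.U : X.Opens) p.e b = 0)
    (hab : f.appLE (p.V : Y.Opens) (p.U : X.Opens) p.e (a + b) = 0) :
    zc p (a + b) hab = zc p a ha + zc p b hb :=
  letI := (f.appLE (p.V : Y.Opens) (p.U : X.Opens) p.e).hom.toAlgebra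
  cls_add a b ha hb hab

theorem zc_mul (p : Pair f) (r a : Γ(Y, (p.V : Y.Opens)))
    (ha : f.appLE (p.V : Y.Opens) (p.U : X.Opens) p.e a = 0)
    (hra : f.appLE (p.V : Y.Opens) (p.U : X.Opens) p.e (r * a) = 0) :
    zc p (r * a) hra = f.appLE (p.V : Y.Opens) (p.U : X.Opens) p.e r • zc p a ha :=
  letI := (f.appLE (p.V : Y.Opens) (p.U : X.Opens) p.e).hom.toAlgebra
  cls_mul r a ha hra

theorem res_zc {p q : Pair f} (h : Le q p) (a : Γ(Y, (p.V : Y.Opens)))
    (ha : f.appLE (p.V : Y.Opens) (p.U : X.Opens) p.e a = 0)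
    (hb : f.appLE (q.V : Y.Opens) (q.U : X.Opens) q.e (rres h.2 a) = 0) :
    res h (zc p a ha) = zc q (rres h.2 a) hb := by
  letI := (f.appLE (p.V : Y.Opens) (p.U : X.Opens) p.e).hom.toAlgebra
  letI := (f.appLE (q.V : Y.Opens) (q.U : X.Opens) q.e).hom.toAlgebra
  letI := (f.appLE (p.V : Y.Opens) (q.U : X.Opens) (h.1.trans p.e)).hom.toAlgebra
  letI := (X.presheaf.map (homOfLE h.1).op).hom.toAlgebra
  letI := (Y.presheaf.map (homOfLE h.2).op).hom.toAlgebra
  haveI : IsScalarTower Γ(Y, (p.V : Y.Opens)) Γ(Y, (q.V : Y.Opens)) Γ(X, (q.U : X.Opens)) :=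
    IsScalarTower.of_algebraMap_eq' (by
      change (f.appLE _ _ _).hom = (f.appLE _ _ _).hom.comp (Y.presheaf.map _).hom
      rw [← CommRingCat.hom_comp, Scheme.Hom.map_appLE])
  haveI : IsScalarTower Γ(Y, (p.V : Y.Opens)) Γ(X, (p.U : X.Opens)) Γ(X, (q.U : X.Opens)) :=
    IsScalarTower.of_algebraMap_eq' (by
      change (f.appLE _ _ _).hom = (X.presheaf.map _).hom.comp (f.appLE _ _ _).hom
      rw [← CommRingCat.hom_comp, Scheme.Hom.appLE_map])
  exact map_cls a ha hb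

/-- A pair below `p` with target in a given open. -/
theorem exists_small_target {p : Pair f} {y : X} (hy : y ∈ (p.U : X.Opens)) (W : Y.Opens)
    (hyW : f y ∈ W) : ∃ (g : Γ(X, (p.U : X.Opens))) (r : Pair f),
      y ∈ X.basicOpen g ∧ (r.U : X.Opens) = X.basicOpen g ∧ Le r (basic p g) ∧
        (r.V : Y.Opens) ≤ W := by
  have hv : f y ∈ (p.V : Y.Opens) ⊓ W := ⟨p.e hy, hyW⟩
  obtain ⟨W', hW', hyW', hWle⟩ := exists_isAffineOpen_mem_and_subset hv
  obtain ⟨g, hg, hyg⟩ := p.U.2.exists_basicOpen_le (V := f ⁻¹ᵁ W') ⟨y, hyW'⟩ hy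
  exact ⟨g, ⟨(basic p g).U, ⟨W', hW'⟩, hg⟩, hyg, rfl, ⟨le_rfl, fun z hz => (hWle hz).1⟩,
    fun z hz => (hWle hz).2⟩

theorem value_unique {W : Y.Opens} (z : ∀ r : Pair f, (r.V : Y.Opens) ≤ W → M r) {p : Pair f}
    (hp : (p.U : X.Opens) ≤ f ⁻¹ᵁ W) (a b : M p)
    (ha : ∀ (r : Pair f) (h : Le r p) (hr : (r.V : Y.Opens) ≤ W), res h a = z r hr)
    (hb : ∀ (r : Pair f) (h : Le r p) (hr : (r.V : Y.Opens) ≤ W), res h b = z r hr) : a = b := by
  refine ext_local a b fun y hy => ?_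
  obtain ⟨g, r, hyg, hrU, hr, hrW⟩ := exists_small_target hy W (hp hy)
  exact ⟨r, hr.trans (basic_le p g), hrU ▸ hyg, (ha r _ hrW).trans (hb r _ hrW).symm⟩

theorem exists_value {W : Y.Opens} (z : ∀ r : Pair f, (r.V : Y.Opens) ≤ W → M r)
    (hz : ∀ (q r : Pair f) (h : Le r q) (hq : (q.V : Y.Opens) ≤ W),
      res h (z q hq) = z r (h.2.trans hq))
    {p : Pair f} (hp : (p.U : X.Opens) ≤ f ⁻¹ᵁ W) :
    ∃ x : M p, ∀ (r : Pair f) (h : Le r p) (hr : (r.V : Y.Opens) ≤ W), res h x = z r hr := by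
  obtain ⟨x, hx⟩ := exists_glue (p := p)
    (fun q _ a => ∀ (r : Pair f) (h : Le r q) (hr : (r.V : Y.Opens) ≤ W), res h a = z r hr)
    (fun q h a b ha hb => value_unique z (h.1.trans hp) a b ha hb)
    (fun q r h h' a ha t ht htW => by rw [res_res]; exact ha t _ htW)
    (fun y hy => by
      obtain ⟨g, r, hyg, hrU, hr, hrW⟩ := exists_small_target hy W (hp hy)
      obtain ⟨a, ha⟩ := (bijective_res hr hrU).2 (z r hrW)
      refine ⟨g, hyg, a, fun t ht htW => ext_local _ _ fun w hw => ?_⟩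
      obtain ⟨g', s, hwg, hsU, hs, hsr⟩ := exists_small (p := t) (p₀ := r) hw (hrU.ge (ht.1 hw))
      refine ⟨s, hs.trans (basic_le t g'), hsU ▸ hwg, ?_⟩
      rw [res_res, ← res_res hsr hr a |>.trans rfl, ha, hz, hz])
  refine ⟨x, fun r h hr => ext_local _ _ fun y hy => ?_⟩
  obtain ⟨g, hyg, hPg⟩ := hx y (h.1 hy)
  obtain ⟨g', hg', hyg'⟩ := r.U.2.exists_basicOpen_le ⟨y, hyg⟩ hy
  refine ⟨basic r g', basic_le r g', hyg', ?_⟩
  have := hPg (basic r g') ⟨hg', h.2⟩ ((basic_le r g').2.trans hr)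
  rw [res_res] at this
  rw [res_res, hz]
  exact this

end Groth.Agent.H1Sheaf
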